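import Groth.Agent.S1258
import Groth.Agent.L20.NormalWE
import Groth.Agent.L20.WeaklyEtaleStalk
import Groth.Agent.L27.Acyclic0.Models
import Mathlib.RingTheory.Valuation.LocalSubring
import Mathlib.RingTheory.Polynomial.ScaleRoots

/-!
# Flat algebras with geometrically reduced fibres over a normal domain are integrally closed in their generic fibre
-/

set_option autoImplicit false
set_option linter.style.haveILetI false
set_option backward.isDefEq.respectTransparency.types false
universe u

open TensorProduct IsLocalRing Polynomial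

noncomputable section

namespace Groth.L20.NormalFibre

/-- The local rings of an étale algebra over a normal domain are normal domains. -/
theorem normal_local_etale (R : Type u) [CommRing R] [IsDomain R] [IsIntegrallyClosed R] (R' : Type u) [CommRing R']
    [Algebra R R'] [Algebra.Etale R R'] (p' : Ideal R') [p'.IsPrime] :
    IsDomain (Localization.AtPrime p') ∧ IsIntegrallyClosed (Localization.AtPrime p') := by
  let p := p'.comap (algebraMap R R')
  letI : Algebra (Localization.AtPrime p) (Localization.AtPrime p') :=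
    (Localization.localRingHom p p' (algebraMap R R') rfl).toAlgebra
  haveI : IsScalarTower R (Localization.AtPrime p) (Localization.AtPrime p') := IsScalarTower.of_algebraMap_eq fun r => by
    rw [RingHom.algebraMap_toAlgebra, Localization.localRingHom_to_map]
    exact IsScalarTower.algebraMap_apply R R' (Localization.AtPrime p') r
  haveI : IsLocalHom (algebraMap (Localization.AtPrime p) (Localization.AtPrime p')) :=
    Localization.isLocalHom_localRingHom p p' (algebraMap R R') rfl
  haveI := Groth.L20.weaklyEtale_of_isLocalization (A := R) (B := R') p.primeCompl p'.primeCompl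
    (Localization.AtPrime p) (Localization.AtPrime p')
  haveI : IsDomain (Localization.AtPrime p) :=
    IsLocalization.isDomain_localization p.primeCompl_le_nonZeroDivisors
  haveI : IsIntegrallyClosed (Localization.AtPrime p) :=
    isIntegrallyClosed_of_isLocalization (R := R) _ p.primeCompl p.primeCompl_le_nonZeroDivisors
  exact Groth.L20.NormalWE.isNormal (Localization.AtPrime p) (Localization.AtPrime p')

/-- A finite family in a valuation ring has a member dividing all the others. -/
theorem exists_dvd_all {V ι : Type*} [CommRing V] [IsDomain V] [ValuationRing V] (g : ι → V) :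
    ∀ s : Finset ι, s.Nonempty → ∃ j ∈ s, ∀ k ∈ s, g j ∣ g k := by
  classical
  intro s hs
  induction hs using Finset.Nonempty.cons_induction with
  | singleton a => exact ⟨a, by simp, by simp⟩
  | cons a s ha _ ih =>
    obtain ⟨j, hj, hall⟩ := ih
    rcases ValuationRing.dvd_total (g a) (g j) with h | h
    · exact ⟨a, by simp, fun k hk => by rcases Finset.mem_cons.1 hk with rfl | hk; exacts [dvd_rfl, h.trans (hall k hk)]⟩
    · exact ⟨j, by simp [hj], fun k hk => by rcases Finset.mem_cons.1 hk with rfl | hk; exacts [h, hall k hk]⟩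

/-- A free algebra with reduced fibres over a normal domain contains the elements integral over it. -/
theorem dvd_of_scaleRoots {A : Type u} [CommRing A] [IsDomain A] [IsIntegrallyClosed A] {C : Type u} [CommRing C]
    [Algebra A C] [Module.Free A C] (hred : ∀ (K : Type u) [Field K] [Algebra A K], _root_.IsReduced (K ⊗[A] C))
    {a : A} (ha : a ≠ 0) {b : C} {P : C[X]} (hP : P.Monic) (h : (P.scaleRoots (algebraMap A C a)).eval b = 0) :
    algebraMap A C a ∣ b := by
  classical
  obtain ⟨ι, bs⟩ := Module.Free.exists_basis (R := A) (M := C)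
  suffices H : ∀ i, a ∣ bs.repr b i by
    choose t ht using H
    refine ⟨∑ i ∈ (bs.repr b).support, t i • bs i, ?_⟩
    conv_lhs => rw [← bs.linearCombination_repr b, Finsupp.linearCombination_apply, Finsupp.sum]
    rw [← Algebra.smul_def, Finset.smul_sum]
    exact Finset.sum_congr rfl fun i _ => by rw [ht i, mul_smul]
  intro i
  let F := FractionRing A
  have haF : algebraMap A F a ≠ 0 := (map_ne_zero_iff _ (IsFractionRing.injective A F)).2 ha
  let R₀ : Subring F := (⊥ : Subalgebra A F).toSubring
  by_contra hdvd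
  have hz : algebraMap A F (bs.repr b i) / algebraMap A F a ∉ R₀ := by
    rintro hm
    obtain ⟨y, hy⟩ := Algebra.mem_bot.1 hm
    rw [eq_div_iff haF, ← map_mul] at hy
    exact hdvd ⟨y, ((IsFractionRing.injective A F) hy).symm.trans (mul_comm _ _)⟩
  haveI : IsIntegrallyClosedIn R₀ F := by
    rw [Subring.isIntegrallyClosedIn_iff]
    intro x hx
    have hx' : IsIntegral (⊥ : Subalgebra A F) x := hx
    haveI : Algebra.IsIntegral A (⊥ : Subalgebra A F) := ⟨fun y => by
      obtain ⟨w, hw⟩ := Algebra.mem_bot.1 y.2
      rw [show y = algebraMap A (⊥ : Subalgebra A F) w from Subtype.ext hw.symm]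
      exact isIntegral_algebraMap⟩
    obtain ⟨w, hw⟩ := IsIntegrallyClosed.isIntegral_iff.1 (isIntegral_trans (R := A) x hx')
    exact Algebra.mem_bot.2 ⟨w, hw⟩
  obtain ⟨V, hV, hzV⟩ := Subring.exists_le_valuationSubring_of_isIntegrallyClosedIn (R := R₀) hz
  let φ : A →+* V := (algebraMap A F).codRestrict V fun r => hV (Algebra.mem_bot.2 ⟨r, rfl⟩)
  letI : Algebra A V := φ.toAlgebra
  let g : ι → V := fun k => algebraMap A V (bs.repr b k)
  have hai : ¬ algebraMap A V a ∣ g i := by
    rintro ⟨v, hv⟩
    refine hzV ?_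
    have hv' : algebraMap A F (bs.repr b i) = algebraMap A F a * (v : F) := congrArg (fun w : V => (w : F)) hv
    rw [hv', mul_div_cancel_left₀ _ haF]
    exact v.2
  have hi : i ∈ (bs.repr b).support := Finsupp.mem_support_iff.2 fun h0 => hai (by simp [g, h0])
  obtain ⟨j, hj, hall⟩ := exists_dvd_all g _ ⟨i, hi⟩
  have haj : ¬ algebraMap A V a ∣ g j := fun h => hai (h.trans (hall i hi))
  obtain ⟨t, ht⟩ := (ValuationRing.dvd_total (algebraMap A V a) (g j)).resolve_left haj
  have hg0 : g j ≠ 0 := fun h0 => haj (h0 ▸ dvd_zero _)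
  have htu : t ∈ maximalIdeal V := by
    rw [IsLocalRing.mem_maximalIdeal]
    rintro ⟨v, hv⟩
    exact haj ⟨(v⁻¹ : Vˣ), by rw [ht, ← hv, mul_assoc, Units.mul_inv, mul_one]⟩
  choose tk htk using fun k : (bs.repr b).support => hall k.1 k.2
  let b₀ : V ⊗[A] C := ∑ k : (bs.repr b).support, tk k ⊗ₜ[A] bs k.1
  have hb : (1 : V) ⊗ₜ[A] b = g j • b₀ := by
    conv_lhs => rw [← bs.linearCombination_repr b, Finsupp.linearCombination_apply, Finsupp.sum]
    rw [TensorProduct.tmul_sum, Finset.smul_sum, ← Finset.sum_coe_sort]
    refine Finset.sum_congr rfl fun k _ => ?_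
    rw [TensorProduct.smul_tmul', TensorProduct.tmul_smul, TensorProduct.smul_tmul', smul_eq_mul, ← htk k,
      Algebra.smul_def, mul_one]
  let inc : C →+* V ⊗[A] C := (Algebra.TensorProduct.includeRight : C →ₐ[A] V ⊗[A] C).toRingHom
  let γ : V ⊗[A] C := algebraMap V (V ⊗[A] C) (g j)
  let τ : V ⊗[A] C := algebraMap V (V ⊗[A] C) t
  have hinca : inc (algebraMap A C a) = τ * γ := by
    show (1 : V) ⊗ₜ[A] algebraMap A C a = _
    rw [← map_mul, mul_comm, ← ht, Algebra.algebraMap_eq_smul_one, TensorProduct.tmul_smul,
      TensorProduct.smul_tmul', Algebra.smul_def, mul_one]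
    rfl
  have hincb : inc b = γ * b₀ := by rw [← Algebra.smul_def]; exact hb
  have hlead : inc P.leadingCoeff ≠ 0 ∨ Subsingleton (V ⊗[A] C) := by
    rw [hP.leadingCoeff, map_one]
    rcases subsingleton_or_nontrivial (V ⊗[A] C) with h1 | h1
    · exact Or.inr h1
    · exact Or.inl (@one_ne_zero _ _ _ (@NeZero.one _ _ h1))
  rcases hlead with hlead | hsub
  swap
  · -- the fibre is empty, impossible as the coordinate of `b` is nonzero
    have h1 := congrArg ((bs.coord i).baseChange V) (@Subsingleton.elim _ hsub ((1 : V) ⊗ₜ[A] b) 0)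
    rw [map_zero, LinearMap.baseChange_tmul] at h1
    have h2 := congrArg (TensorProduct.rid A V) h1
    rw [map_zero, TensorProduct.rid_tmul, Algebra.smul_def, mul_one] at h2
    exact hai (by simp only [g]; rw [show algebraMap A V (bs.repr b i) = 0 from h2]; exact dvd_zero _)
  have h' : ((P.map inc).scaleRoots (τ * γ)).eval (γ * b₀) = 0 := by
    rw [← hinca, ← hincb, ← Polynomial.map_scaleRoots _ _ _ hlead, Polynomial.eval_map_apply, h, map_zero]
  have hQ : ((P.map inc).scaleRoots τ).eval b₀ = 0 := by
    rw [Polynomial.scaleRoots_mul, Polynomial.scaleRoots_eval_mul] at h'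
    have hreg : IsSMulRegular (V ⊗[A] C) (g j ^ ((P.map inc).scaleRoots τ).natDegree) :=
      Module.Flat.isSMulRegular_of_nonZeroDivisors (R := V) (M := V ⊗[A] C) (pow_mem (mem_nonZeroDivisors_of_ne_zero hg0) _)
    refine hreg ?_
    show _ • _ = _ • _
    rw [smul_zero, Algebra.smul_def, map_pow]
    exact h'
  let κ := ResidueField V
  let f : V ⊗[A] C →+* κ ⊗[A] C :=
    (Algebra.TensorProduct.map (IsScalarTower.toAlgHom A V κ) (AlgHom.id A C)).toRingHom
  haveI := hred κ
  have hfτ : f τ = 0 := by
    show (algebraMap V κ t) ⊗ₜ[A] (1 : C) = 0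
    rw [show algebraMap V κ t = 0 from (IsLocalRing.residue_eq_zero_iff t).2 htu, TensorProduct.zero_tmul]
  have hfj : f b₀ ≠ 0 := by
    intro h0
    have h1 := congrArg ((bs.coord j).baseChange κ) h0
    rw [map_zero] at h1
    have h2 := congrArg (TensorProduct.rid A κ) h1
    rw [map_zero] at h2
    simp only [b₀, map_sum] at h2
    rw [Finset.sum_eq_single ⟨j, hj⟩] at h2
    · have htj : tk ⟨j, hj⟩ = 1 := mul_left_cancel₀ hg0 ((htk ⟨j, hj⟩).symm.trans (mul_one _).symm)
      simp [f, htj] at h2
    · intro k _ hk
      have : k.1 ≠ j := fun e => hk (Subtype.ext e)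
      simp [f, this]
    · simp
  have h0 := congrArg f hQ
  rw [map_zero, ← Polynomial.eval_map_apply, Polynomial.map_scaleRoots, hfτ, Polynomial.scaleRoots_zero] at h0
  · have hm : ((P.map inc).map f).leadingCoeff = 1 := ((hP.map inc).map f).leadingCoeff
    rw [hm, one_smul, Polynomial.eval_pow, Polynomial.eval_X] at h0
    exact hfj (IsNilpotent.eq_zero ⟨_, h0⟩)
  · rw [(hP.map inc).leadingCoeff, map_one]
    intro h1
    exact hfj (eq_zero_of_zero_eq_one h1.symm (f b₀))

/-- A free module from a free module of restricted scalars. -/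
theorem free_of_restrictScalars {A SA C : Type u} [CommRing A] [CommRing SA] [CommRing C] [Algebra SA C] [Algebra A C]
    (h : Module.Free A (RestrictScalars A C (C ⊗[SA] SA))) : Module.Free A C := by
  let r := AlgebraTensorModule.rid SA C C
  let e : RestrictScalars A C (C ⊗[SA] SA) ≃ₗ[A] C :=
    { (RestrictScalars.addEquiv A C (C ⊗[SA] SA)).trans r.toAddEquiv with
      map_smul' := fun a z => by
        show r (RestrictScalars.addEquiv A C _ (a • z)) = a • r (RestrictScalars.addEquiv A C _ z)
        rw [RestrictScalars.addEquiv_map_smul, map_smul, algebraMap_smul] }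
  exact Module.Free.of_equiv e

/-- **Geometrically reduced flat algebras over a normal domain** admit no non-trivial finite modification
of the generic fibre. -/
theorem surjective_of_integral {R B B' : Type u} [CommRing R] [IsDomain R] [IsIntegrallyClosed R] [CommRing B]
    [Algebra R B] [Algebra.FinitePresentation R B] [Module.Flat R B]
    (hred : ∀ (K : Type u) [Field K] [Algebra R K], _root_.IsReduced (K ⊗[R] B))
    [CommRing B'] [Algebra B B'] [Algebra R B'] [IsScalarTower R B B'] [Algebra.IsIntegral B B']
    (hinj : Function.Injective (algebraMap B B'))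
    (htf : ∀ r : R, r ≠ 0 → ∀ x : B', r • x = 0 → x = 0)
    (hden : ∀ x : B', ∃ r : R, r ≠ 0 ∧ ∃ b : B, r • x = algebraMap B B' b) :
    Function.Surjective (algebraMap B B') := by
  intro x
  obtain ⟨r, hr, b, hb⟩ := hden x
  obtain ⟨P, hP, hPx⟩ := Algebra.IsIntegral.isIntegral (R := B) x
  have hrel : (P.scaleRoots (algebraMap R B r)).eval b = 0 := by
    have h1 := Polynomial.scaleRoots_aeval_eq_zero (p := P) (r := algebraMap R B r) (show aeval x P = 0 from hPx)
    rw [← IsScalarTower.algebraMap_apply, ← Algebra.smul_def, hb, Polynomial.aeval_algebraMap_apply_eq_algebraMap_eval] at h1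
    exact hinj (h1.trans (map_zero _).symm)
  let gx : B →ₗ[B] B' ⧸ LinearMap.range (Algebra.linearMap B B') :=
    (LinearMap.range (Algebra.linearMap B B')).mkQ ∘ₗ LinearMap.toSpanSingleton B B' x
  suffices hI : (1 : B) ∈ LinearMap.ker gx by
    have : x ∈ LinearMap.range (Algebra.linearMap B B') := by
      rw [← Submodule.Quotient.mk_eq_zero]
      simpa [gx] using hI
    exact this
  by_contra h1
  obtain ⟨q, hq, hIq⟩ := Ideal.exists_le_maximal (LinearMap.ker gx) fun e => h1 (by rw [e]; trivial)
  haveI := hq.isPrime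
  let p := q.comap (algebraMap R B)
  haveI : q.LiesOver p := ⟨rfl⟩
  obtain ⟨R', _, _, p', _, hN, H⟩ := Groth.Agent.S1258.result (R := R) (S := B) B p fun Q _ _ =>
    (inferInstance : Module.Flat R (LocalizedModule Q.primeCompl B))
  haveI := hN.1
  let A := Localization.AtPrime p'
  obtain ⟨hdA, hiA⟩ := normal_local_etale R R' p'
  haveI := hdA
  haveI := hiA
  haveI : Module.Flat R A := Module.Flat.trans R R' A
  letI : Algebra A (B ⊗[R] A) := Algebra.TensorProduct.rightAlgebra
  let SA := B ⊗[R] A
  obtain ⟨C, _, _, _, _, _, _, hetale, -, hsurj, -, hfree⟩ :=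
    H SA SA (Algebra.linearMap B SA) (IsBaseChange.linearMap B SA)
  haveI := hetale
  haveI : Module.Free A C := free_of_restrictScalars hfree
  have hredC : ∀ (K : Type u) [Field K] [Algebra A K], _root_.IsReduced (K ⊗[A] C) := by
    intro K _ _
    letI : Algebra R K := ((algebraMap A K).comp (algebraMap R A)).toAlgebra
    haveI : IsScalarTower R A K := IsScalarTower.of_algebraMap_eq' rfl
    haveI := hred K
    haveI : Algebra.IsPushout R A B SA := Algebra.IsPushout.symm inferInstance
    let e : SA ⊗[A] K ≃+* K ⊗[R] B :=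
      (Algebra.TensorProduct.comm A SA K).toRingEquiv.trans
        ((Algebra.TensorProduct.congr (AlgEquiv.refl (R := A) (A₁ := K)) (Algebra.IsPushout.equiv R A B SA).symm).toRingEquiv.trans
          (Algebra.TensorProduct.cancelBaseChange R A K K B).toRingEquiv)
    haveI h' : _root_.IsReduced (C ⊗[A] K) :=
      Groth.L27.Acyclic0.isReduced_fibre_etale A SA C K (isReduced_of_injective e e.injective)
    exact isReduced_of_injective (Algebra.TensorProduct.comm A K C).toRingEquiv (Algebra.TensorProduct.comm A K C).injective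
  have hmapr : algebraMap B C (algebraMap R B r) = algebraMap A C (algebraMap R A r) := by
    rw [IsScalarTower.algebraMap_apply B SA C, IsScalarTower.algebraMap_apply A SA C,
      ← IsScalarTower.algebraMap_apply R B SA, ← IsScalarTower.algebraMap_apply R A SA]
  have hr' : algebraMap R A r ≠ 0 := fun h0 => one_ne_zero (α := A)
    (Module.Flat.isSMulRegular_of_nonZeroDivisors (R := R) (M := A) (mem_nonZeroDivisors_of_ne_zero hr)
      (show r • (1 : A) = r • 0 by rw [smul_zero, Algebra.smul_def, h0, zero_mul]))
  obtain ⟨c, hc⟩ : algebraMap A C (algebraMap R A r) ∣ algebraMap B C b := by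
    rcases subsingleton_or_nontrivial C with hC | hC
    · exact ⟨0, Subsingleton.elim _ _⟩
    refine dvd_of_scaleRoots hredC hr' (hP.map (algebraMap B C)) ?_
    rw [← hmapr, ← Polynomial.map_scaleRoots _ _ _ (by rw [hP.leadingCoeff, map_one]; exact one_ne_zero),
      Polynomial.eval_map_apply, hrel, map_zero]
  haveI : Module.Flat B C := Module.Flat.trans B SA C
  let δ : B' →ₗ[B] B' := LinearMap.lsmul B B' (algebraMap R B r)
  have hδ : Function.Injective δ := (injective_iff_map_eq_zero _).2 fun y hy => htf r hr y (by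
    rw [← algebraMap_smul B r y]; exact hy)
  have hy : (1 : C) ⊗ₜ[B] x = c ⊗ₜ[B] (1 : B') := by
    refine Module.Flat.lTensor_preserves_injective_linearMap (M := C) δ hδ ?_
    rw [LinearMap.lTensor_tmul, LinearMap.lTensor_tmul]
    show (1 : C) ⊗ₜ[B] (algebraMap R B r • x) = c ⊗ₜ[B] (algebraMap R B r • (1 : B'))
    rw [algebraMap_smul, hb, Algebra.algebraMap_eq_smul_one, TensorProduct.tmul_smul, TensorProduct.tmul_smul,
      TensorProduct.smul_tmul', TensorProduct.smul_tmul', Algebra.smul_def, Algebra.smul_def, mul_one, hmapr, hc]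
  have hzero : gx.lTensor C ((1 : C) ⊗ₜ[B] (1 : B)) = 0 := by
    rw [LinearMap.lTensor_tmul]
    show (1 : C) ⊗ₜ[B] ((LinearMap.range (Algebra.linearMap B B')).mkQ ((1 : B) • x)) = 0
    rw [one_smul, ← LinearMap.lTensor_tmul, hy, LinearMap.lTensor_tmul, Submodule.mkQ_apply,
      (Submodule.Quotient.mk_eq_zero _).2 (LinearMap.mem_range.2 ⟨1, map_one (algebraMap B B')⟩), TensorProduct.tmul_zero]
  obtain ⟨w, hw⟩ := (Module.Flat.lTensor_exact C (LinearMap.exact_subtype_ker_map gx) _).1 hzero
  have hmem : (1 : C) ∈ Ideal.map (algebraMap B C) (LinearMap.ker gx) := by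
    have key : ∀ w : C ⊗[B] LinearMap.ker gx,
        TensorProduct.rid B C ((LinearMap.ker gx).subtype.lTensor C w) ∈ Ideal.map (algebraMap B C) (LinearMap.ker gx) := by
      intro w
      induction w using TensorProduct.induction_on with
      | zero => simp
      | add y z hy hz => rw [map_add, map_add]; exact add_mem hy hz
      | tmul y z =>
        rw [LinearMap.lTensor_tmul, TensorProduct.rid_tmul, Algebra.smul_def]
        exact Ideal.mul_mem_right _ _ (Ideal.mem_map_of_mem _ z.2)
    have := key w
    rw [hw, TensorProduct.rid_tmul, one_smul] at this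
    exact this
  obtain ⟨x', hx', hx'q, -⟩ := hsurj q inferInstance
  refine hx'.ne_top ((Ideal.eq_top_iff_one _).2 ?_)
  exact Ideal.map_le_iff_le_comap.2 (hx'q.symm ▸ hIq) hmem

end Groth.L20.NormalFibre
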